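import Cfsg.Agent.H883.Root

/-!
Subspaces of quadratic spaces: orthogonal complements, restriction of `Q` to a nondegenerate subspace
`Y`, and the subgroup `EY Q Y` of `E Q` generated by the Siegel transformations `siegel u w` with
`u, w ∈ Y` (it is `E` of the restricted form, extended by the identity on `Y^⊥`).
-/

set_option autoImplicit false

namespace Cfsg.Agent.H883.Sub

open QuadraticMap Cfsg.Agent.LieClassical.OrthCore Cfsg.Agent.LieClassical.OrthTrans
  Cfsg.Agent.LieClassical.OrthFinite Cfsg.Agent.LieClassical.OrthSimple Cfsg.Agent.H883.Bridge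
  Cfsg.Agent.H883.Root

variable {F V : Type*} [Field F] [AddCommGroup V] [Module F V] {Q : QuadraticForm F V}

/-! ### Orthogonal complements -/

/-- The orthogonal complement of `W` for the polar form. -/
def perp (Q : QuadraticForm F V) (W : Submodule F V) : Submodule F V :=
  LinearMap.BilinForm.orthogonal (polarBilin Q) W

theorem mem_perp {W : Submodule F V} {v : V} : v ∈ perp Q W ↔ ∀ w ∈ W, polar Q w v = 0 :=
  Iff.rfl

theorem mem_perp' {W : Submodule F V} {v : V} : v ∈ perp Q W ↔ ∀ w ∈ W, polar Q v w = 0 := by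
  rw [mem_perp]
  constructor
  · intro h w hw
    rw [polar_comm]
    exact h w hw
  · intro h w hw
    rw [polar_comm]
    exact h w hw

theorem polar_isRefl (Q : QuadraticForm F V) : (polarBilin Q : LinearMap.BilinForm F V).IsRefl := by
  intro x y h
  have h' : polar Q x y = 0 := h
  show polar Q y x = 0
  rw [polar_comm]
  exact h'

theorem nondegenerate_of_nondeg (hQ : Nondeg Q) :
    (polarBilin Q : LinearMap.BilinForm F V).Nondegenerate := by
  constructor
  · intro x hx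
    exact hQ x hx
  · intro x hx
    refine hQ x fun y => ?_
    rw [polar_comm]
    exact hx y

theorem finrank_perp [FiniteDimensional F V] (hQ : Nondeg Q) (W : Submodule F V) :
    Module.finrank F W + Module.finrank F (perp Q W) = Module.finrank F V := by
  have h := LinearMap.BilinForm.finrank_orthogonal (nondegenerate_of_nondeg hQ) W
  have h2 : Module.finrank F W ≤ Module.finrank F V := Submodule.finrank_le W
  unfold perp
  omega

theorem perp_perp [FiniteDimensional F V] (hQ : Nondeg Q) (W : Submodule F V) :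
    perp Q (perp Q W) = W :=
  LinearMap.BilinForm.orthogonal_orthogonal (nondegenerate_of_nondeg hQ) (polar_isRefl Q) W

theorem perp_anti {W W' : Submodule F V} (h : W ≤ W') : perp Q W' ≤ perp Q W :=
  LinearMap.BilinForm.orthogonal_le h

theorem le_perp_perp (W : Submodule F V) : W ≤ perp Q (perp Q W) :=
  LinearMap.BilinForm.le_orthogonal_orthogonal (polar_isRefl Q)

theorem le_perp_iff {W W' : Submodule F V} : W ≤ perp Q W' ↔ ∀ w ∈ W, ∀ w' ∈ W', polar Q w w' = 0 :=
  ⟨fun h w hw w' hw' => mem_perp'.1 (h hw) w' hw', fun h w hw => mem_perp'.2 (h w hw)⟩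

/-- `W` is nondegenerate for the polar form of `Q`. -/
def NondegOn (Q : QuadraticForm F V) (W : Submodule F V) : Prop :=
  ∀ y ∈ W, (∀ z ∈ W, polar Q y z = 0) → y = 0

theorem NondegOn.isCompl [FiniteDimensional F V] {W : Submodule F V} (h : NondegOn Q W) :
    IsCompl W (perp Q W) := by
  refine (LinearMap.BilinForm.isCompl_orthogonal_iff_disjoint (polar_isRefl Q)).2 ?_
  rw [Submodule.disjoint_def]
  intro x hx hx'
  exact h x hx fun z hz => mem_perp'.1 hx' z hz

theorem NondegOn.exists_decomp [FiniteDimensional F V] {W : Submodule F V} (h : NondegOn Q W)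
    (v : V) : ∃ w ∈ W, ∃ w' ∈ perp Q W, v = w + w' := by
  have : v ∈ W ⊔ perp Q W := by rw [h.isCompl.sup_eq_top]; trivial
  obtain ⟨w, hw, w', hw', e⟩ := Submodule.mem_sup.1 this
  exact ⟨w, hw, w', hw', e.symm⟩

theorem NondegOn.perp [FiniteDimensional F V] (hQ : Nondeg Q) {W : Submodule F V}
    (h : NondegOn Q W) : NondegOn Q (perp Q W) := by
  intro y hy hy'
  apply hQ
  intro v
  obtain ⟨w, hw, w', hw', rfl⟩ := h.exists_decomp v
  rw [polar_add_right, hy' w' hw', mem_perp'.1 hy w hw, add_zero]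

theorem nondegOn_of_geo {ι : Type} [Fintype ι] [DecidableEq ι] {Q : QuadraticForm F (ι → F)}
    {W : Submodule F (ι → F)} (h : Cfsg.Geo.IsNondegenerateOn (polar (Q : (ι → F) → F)) W) :
    NondegOn Q W := by
  intro y hy hy'
  by_contra h0
  obtain ⟨-, x, hx, hx'⟩ := h y hy h0
  exact hx' (hy' x hx)

theorem NondegOn.exists_polar_eq {W : Submodule F V} (h : NondegOn Q W) {x : V} (hx : x ∈ W)
    (hx0 : x ≠ 0) (c : F) : ∃ y ∈ W, polar Q x y = c := by
  by_contra hcon
  push Not at hcon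
  apply hx0
  refine h x hx fun z hz => ?_
  by_contra hne
  apply hcon ((c * (polar Q x z)⁻¹) • z) (W.smul_mem _ hz)
  rw [polar_smul_right, smul_eq_mul, mul_assoc, inv_mul_cancel₀ hne, mul_one]

/-! ### Restriction to a subspace -/

/-- The restriction of `Q` to the subspace `Y`. -/
def res (Q : QuadraticForm F V) (Y : Submodule F V) : QuadraticForm F Y := Q.comp Y.subtype

theorem res_apply (Y : Submodule F V) (y : Y) : res Q Y y = Q (y : V) := rfl

theorem polar_res (Y : Submodule F V) (y z : Y) : polar (res Q Y) y z = polar Q (y : V) (z : V) :=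
  rfl

theorem NondegOn.res {Y : Submodule F V} (h : NondegOn Q Y) : Nondeg (res Q Y) := by
  intro x hx
  apply Subtype.ext
  exact h x x.2 fun z hz => hx ⟨z, hz⟩

theorem good_res [Finite F] {Y : Submodule F V} (h : NondegOn Q Y)
    (hd : 5 ≤ Module.finrank F Y) : Good (res Q Y) :=
  good_of_finite h.res hd

/-- The group generated by the Siegel transformations `siegel u w` with `u, w ∈ Y`. -/
def EY (Q : QuadraticForm F V) (Y : Submodule F V) : Subgroup (V ≃ₗ[F] V) :=
  Subgroup.closure {g | ∃ (u w : V) (hu : Q u = 0) (hw : polar Q u w = 0),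
    u ∈ Y ∧ w ∈ Y ∧ g = siegel Q u w hu hw}

theorem has_EY {Y : Submodule F V} {u w : V} (hu : Q u = 0) (hw : polar Q u w = 0) (huY : u ∈ Y)
    (hwY : w ∈ Y) : Has Q (EY Q Y) u w :=
  ⟨hu, hw, Subgroup.subset_closure ⟨u, w, hu, hw, huY, hwY, rfl⟩⟩

/-- `EY Q Y ≤ H` iff `H` contains the Siegel transformations of `Y`. -/
theorem EY_le_iff {Y : Submodule F V} {H : Subgroup (V ≃ₗ[F] V)} :
    EY Q Y ≤ H ↔ ∀ u ∈ Y, ∀ w ∈ Y, Q u = 0 → polar Q u w = 0 → Has Q H u w := by
  constructor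
  · intro h u hu w hw h1 h2
    exact (has_EY h1 h2 hu hw).mono h
  · intro h
    rw [EY, Subgroup.closure_le]
    rintro _ ⟨u, w, hu, hw, huY, hwY, rfl⟩
    exact (h u huY w hwY hu hw).mem hu hw

theorem EY_le_E {Y : Submodule F V} : EY Q Y ≤ E Q :=
  EY_le_iff.2 fun _ _ _ _ h1 h2 => has_E h1 h2

theorem EY_mono {Y Y' : Submodule F V} (h : Y ≤ Y') : EY Q Y ≤ EY Q Y' :=
  EY_le_iff.2 fun _ hu _ hw h1 h2 => has_EY h1 h2 (h hu) (h hw)

/-- Elements of `EY Q Y` fix everything orthogonal to `Y`. -/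
theorem EY_fix {Y : Submodule F V} {g : V ≃ₗ[F] V} (hg : g ∈ EY Q Y) {v : V}
    (hv : ∀ y ∈ Y, polar Q y v = 0) : g v = v := by
  induction hg using Subgroup.closure_induction with
  | mem x hx =>
    obtain ⟨u, w, hu, hw, huY, hwY, rfl⟩ := hx
    exact siegel_fix hu hw (hv u huY) (hv w hwY)
  | one => rfl
  | mul x y _ _ ihx ihy =>
    show x (y v) = v
    rw [ihy, ihx]
  | inv x _ ihx =>
    show x.symm v = v
    rw [LinearEquiv.symm_apply_eq, ihx]

/-- Elements of `EY Q Y` map `Y` to itself. -/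
theorem EY_stab [FiniteDimensional F V] {Y : Submodule F V} : EY Q Y ≤ stab Y :=
  EY_le_iff.2 fun _ hu _ hw h1 h2 => has_stab_of_mem h1 h2 hu hw

/-- Elements of `EY Q Y` stabilise every subspace orthogonal to `Y`. -/
theorem EY_stab_of_orth [FiniteDimensional F V] {Y W : Submodule F V} (h : W ≤ perp Q Y) :
    EY Q Y ≤ stab W := by
  intro g hg
  refine mem_stab_of_le fun w hw => ?_
  rw [EY_fix hg (mem_perp.1 (h hw))]
  exact hw

/-- An element of `E (res Q Y)` is the restriction of an element of `EY Q Y`. -/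
theorem exists_lift {Y : Submodule F V} {g : Y ≃ₗ[F] Y} (hg : g ∈ E (res Q Y)) :
    ∃ g' ∈ EY Q Y, ∀ y : Y, g' (y : V) = (g y : V) := by
  induction hg using Subgroup.closure_induction with
  | mem x hx =>
    obtain ⟨u, w, hu, hw, rfl⟩ := hx
    have hu' : Q (u : V) = 0 := hu
    have hw' : polar Q (u : V) (w : V) = 0 := hw
    refine ⟨siegel Q (u : V) (w : V) hu' hw',
      (has_EY (Q := Q) hu' hw' u.2 w.2).mem hu' hw', fun y => ?_⟩
    rw [siegel_apply hu' hw', siegel_apply hu hw]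
    rfl
  | one => exact ⟨1, Subgroup.one_mem _, fun y => rfl⟩
  | mul x y _ _ ihx ihy =>
    obtain ⟨x', hx', ex⟩ := ihx
    obtain ⟨y', hy', ey⟩ := ihy
    refine ⟨x' * y', Subgroup.mul_mem _ hx' hy', fun z => ?_⟩
    show x' (y' z) = _
    rw [ey, ex]
    rfl
  | inv x _ ihx =>
    obtain ⟨x', hx', ex⟩ := ihx
    refine ⟨x'⁻¹, Subgroup.inv_mem _ hx', fun z => ?_⟩
    show x'.symm z = _
    rw [LinearEquiv.symm_apply_eq, ex]
    congr 1
    exact (LinearEquiv.apply_symm_apply x z).symm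

/-- **`EY Q Y` is transitive on nonzero singular vectors of `Y`.** -/
theorem EY_trans_sing {Y : Submodule F V} (hG : Good (res Q Y)) {x x' : V} (hxY : x ∈ Y)
    (hx'Y : x' ∈ Y) (hx : Q x = 0) (hx' : Q x' = 0) (h0 : x ≠ 0) (h0' : x' ≠ 0) :
    ∃ g ∈ EY Q Y, g x = x' := by
  obtain ⟨g, hg, e⟩ := hG.trans_sing (x := ⟨x, hxY⟩) (x' := ⟨x', hx'Y⟩) hx hx'
    (fun h => h0 (congrArg Subtype.val h)) (fun h => h0' (congrArg Subtype.val h))
  obtain ⟨g', hg', e'⟩ := exists_lift hg
  refine ⟨g', hg', ?_⟩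
  rw [e' ⟨x, hxY⟩, e]

/-- **`EY Q Y` is transitive on hyperbolic pairs of `Y`.** -/
theorem EY_trans_hyp {Y : Submodule F V} (hG : Good (res Q Y)) {x y x' y' : V} (hxY : x ∈ Y)
    (hyY : y ∈ Y) (hx'Y : x' ∈ Y) (hy'Y : y' ∈ Y) (h : Hyp Q x y) (h' : Hyp Q x' y') :
    ∃ g ∈ EY Q Y, g x = x' ∧ g y = y' := by
  obtain ⟨g, hg, e1, e2⟩ := hG.trans_hyp (x := ⟨x, hxY⟩) (y := ⟨y, hyY⟩) (x' := ⟨x', hx'Y⟩)
    (y' := ⟨y', hy'Y⟩) ⟨h.left, h.right, h.pair⟩ ⟨h'.left, h'.right, h'.pair⟩
  obtain ⟨g', hg', e'⟩ := exists_lift hg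
  refine ⟨g', hg', ?_, ?_⟩
  · rw [e' ⟨x, hxY⟩, e1]
  · rw [e' ⟨y, hyY⟩, e2]

/-- **`EY Q Y` is transitive on nonzero vectors of `Y` of given norm.** -/
theorem EY_trans_norm {Y : Submodule F V} (hG : Good (res Q Y)) {x x' : V} (hxY : x ∈ Y)
    (hx'Y : x' ∈ Y) (h : Q x = Q x') (h0 : x ≠ 0) (h0' : x' ≠ 0) :
    ∃ g ∈ EY Q Y, g x = x' := by
  obtain ⟨g, hg, e⟩ := hG.trans_norm (v := ⟨x, hxY⟩) (v' := ⟨x', hx'Y⟩)
    (fun h => h0 (congrArg Subtype.val h)) (fun h => h0' (congrArg Subtype.val h)) h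
  obtain ⟨g', hg', e'⟩ := exists_lift hg
  refine ⟨g', hg', ?_⟩
  rw [e' ⟨x, hxY⟩, e]

/-! ### Reflections and extension by elements of `O Q` -/

/-- In a nondegenerate subspace with a hyperbolic pair every value is taken by a nonzero vector. -/
theorem exists_value {x y : V} (h : Hyp Q x y) (c : F) : Q (x + c • y) = c ∧ x + c • y ≠ 0 := by
  have h1 : Q (x + c • y) = c := by
    rw [Q_add, QuadraticMap.map_smul, polar_smul_right, h.left, h.right, h.pair]
    simp
  refine ⟨h1, fun h0 => ?_⟩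
  have h2 : polar Q y (x + c • y) = 1 := by
    rw [polar_add_right, polar_smul_right, h.pair', h.polar_right]
    simp
  rw [h0, polar_zero_right] at h2
  exact zero_ne_one h2

/-- **`O Q = E Q · R(Y)`**: every isometry can be corrected, by an element `r` of the group generated
by reflections in vectors of `Y`, to an element of `E Q`, as soon as `Y` contains a hyperbolic pair. -/
theorem exists_correct [FiniteDimensional F V] (hG : Good Q) {Y : Submodule F V} {x y : V}
    (hxY : x ∈ Y) (hyY : y ∈ Y) (h : Hyp Q x y) {g : V ≃ₗ[F] V} (hg : g ∈ O Q) :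
    ∃ r ∈ Subgroup.closure {s : V ≃ₗ[F] V | ∃ (v : V) (hv : Q v ≠ 0), v ∈ Y ∧ s = refl Q v hv},
      r * g ∈ E Q ∧ g * r ∈ E Q := by
  set R := Subgroup.closure {s : V ≃ₗ[F] V | ∃ (v : V) (hv : Q v ≠ 0), v ∈ Y ∧ s = refl Q v hv}
    with hR
  have hRO : R ≤ O Q := by
    rw [hR, Subgroup.closure_le]
    rintro _ ⟨v, hv, -, rfl⟩
    exact refl_mem_O hv
  -- it suffices to get one side
  have key : ∀ g ∈ O Q, ∃ r ∈ R, r * g ∈ E Q := by
    intro g hg
    rw [O_eq_closure hG.nondeg] at hg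
    induction hg using Subgroup.closure_induction with
    | mem s hs =>
      rcases hs with ⟨v, hv, rfl⟩ | ⟨u, w, hu, hw, rfl⟩
      · obtain ⟨h1, h2⟩ := exists_value h (Q v)
        have hv' : Q (x + Q v • y) ≠ 0 := by rw [h1]; exact hv
        refine ⟨refl Q _ hv', Subgroup.subset_closure
          ⟨_, hv', Y.add_mem hxY (Y.smul_mem _ hyY), rfl⟩, ?_⟩
        exact hG.refl_mul_refl_mem hv hv' h1.symm
      · exact ⟨1, R.one_mem, by rw [one_mul]; exact siegel_mem_E hu hw⟩
    | one => exact ⟨1, R.one_mem, by rw [one_mul]; exact Subgroup.one_mem _⟩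
    | mul a b ha hb iha ihb =>
      obtain ⟨r, hr, hra⟩ := iha
      obtain ⟨s, hs, hsb⟩ := ihb
      refine ⟨s * r, R.mul_mem hs hr, ?_⟩
      have e : s * r * (a * b) = (s * (r * a) * s⁻¹) * (s * b) := by group
      rw [e]
      exact E_mul (conj_mem_E (hRO hs) hra) hsb
    | inv a ha iha =>
      obtain ⟨r, hr, hra⟩ := iha
      refine ⟨r⁻¹, R.inv_mem hr, ?_⟩
      have e : r⁻¹ * a⁻¹ = r⁻¹ * (r * a)⁻¹ * r⁻¹⁻¹ := by group
      rw [e]
      exact conj_mem_E ((O Q).inv_mem (hRO hr)) ((E Q).inv_mem hra)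
  obtain ⟨r, hr, hrg⟩ := key g hg
  refine ⟨r, hr, hrg, ?_⟩
  have e : g * r = r⁻¹ * (r * g) * r⁻¹⁻¹ := by group
  rw [e]
  exact conj_mem_E ((O Q).inv_mem (hRO hr)) hrg

/-- Elements of the reflection group of `Y` fix `Y^⊥` pointwise. -/
theorem refl_closure_fix {Y : Submodule F V} {r : V ≃ₗ[F] V}
    (hr : r ∈ Subgroup.closure {s : V ≃ₗ[F] V | ∃ (v : V) (hv : Q v ≠ 0), v ∈ Y ∧ s = refl Q v hv})
    {v : V} (hv : ∀ y ∈ Y, polar Q y v = 0) : r v = v := by
  induction hr using Subgroup.closure_induction with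
  | mem x hx =>
    obtain ⟨y, hy, hyY, rfl⟩ := hx
    rw [refl_apply, hv y hyY]
    simp
  | one => rfl
  | mul x y _ _ ihx ihy =>
    show x (y v) = v
    rw [ihy, ihx]
  | inv x _ ihx =>
    show x.symm v = v
    rw [LinearEquiv.symm_apply_eq, ihx]

/-- Gluing of isometries of a nondegenerate subspace and of its orthogonal complement: the isometry
`g₁` of `W` extends to `V` by the identity on `W^⊥`. -/
theorem exists_extend [FiniteDimensional F V] {W : Submodule F V} (h : NondegOn Q W)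
    {g₁ : W ≃ₗ[F] W} (hg₁ : ∀ w, Q (g₁ w : V) = Q (w : V)) :
    ∃ g ∈ O Q, (∀ w : W, g (w : V) = (g₁ w : V)) ∧ ∀ v ∈ perp Q W, g v = v := by
  let e := Submodule.prodEquivOfIsCompl W (perp Q W) h.isCompl
  let g : V ≃ₗ[F] V := e.symm.trans ((g₁.prodCongr (LinearEquiv.refl F (perp Q W))).trans e)
  have hge : ∀ (w : W) (w' : perp Q W), g ((w : V) + (w' : V)) = (g₁ w : V) + (w' : V) := by
    intro w w'
    have h1 : e (w, w') = (w : V) + (w' : V) := rfl
    have h2 : e.symm ((w : V) + (w' : V)) = (w, w') := by rw [← h1, LinearEquiv.symm_apply_apply]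
    show e ((g₁.prodCongr (LinearEquiv.refl F (perp Q W))) (e.symm ((w : V) + (w' : V)))) = _
    rw [h2]
    rfl
  refine ⟨g, ?_, ?_, ?_⟩
  · intro v
    obtain ⟨w, hw, w', hw', rfl⟩ := h.exists_decomp v
    rw [hge ⟨w, hw⟩ ⟨w', hw'⟩, Q_add, Q_add, hg₁ ⟨w, hw⟩, mem_perp.1 hw' w hw,
      mem_perp.1 hw' _ (g₁ ⟨w, hw⟩).2]
  · intro w
    have := hge w 0
    simpa using this
  · intro v hv
    have := hge 0 ⟨v, hv⟩
    simpa using this

end Cfsg.Agent.H883.Sub
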