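import Cfsg.Prelude.Def_GeometricClasses
import Cfsg.Agent.ClassicalGeometry.SymmNormalForm

/-!
Nondegenerate symmetric bilinear forms on `F^3`, `|F| = 3`: there is an orthogonal frame of three vectors
of equal norm, and every similarity permutes the frame up to signs (`O_3(3) = 2 × Sym(4)` is monomial).
-/

set_option autoImplicit false

namespace Cfsg.Agent.H883.Frame3

open scoped Matrix

section Field3

variable {F : Type*} [Field F] [Fintype F]

theorem three_eq_zero (hq : Fintype.card F = 3) : (3 : F) = 0 := by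
  have := FiniteField.cast_card_eq_zero F
  rw [hq] at this
  exact_mod_cast this

theorem elems (hq : Fintype.card F = 3) (x : F) : x = 0 ∨ x = 1 ∨ x = -1 := by
  have h := FiniteField.pow_card x
  rw [hq] at h
  have h2 : x * ((x - 1) * (x + 1)) = 0 := by linear_combination h
  rcases mul_eq_zero.1 h2 with h3 | h3
  · exact Or.inl h3
  · rcases mul_eq_zero.1 h3 with h4 | h4
    · exact Or.inr (Or.inl (sub_eq_zero.1 h4))
    · exact Or.inr (Or.inr (eq_neg_of_add_eq_zero_left h4))

theorem two_ne_zero3 (hq : Fintype.card F = 3) : (2 : F) ≠ 0 := by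
  intro h
  have h3 := three_eq_zero hq
  have : (1 : F) = 0 := by linear_combination h3 - h
  exact one_ne_zero this

theorem neg_one_ne_one3 (hq : Fintype.card F = 3) : (-1 : F) ≠ 1 := by
  intro h
  apply two_ne_zero3 hq
  linear_combination -h

theorem sq_cases (hq : Fintype.card F = 3) (x : F) : (x = 0 ∧ x * x = 0) ∨ (x ≠ 0 ∧ x * x = 1) := by
  rcases elems hq x with h | h | h
  · left; rw [h]; simp
  · right; rw [h]; simp
  · right; rw [h]; simp

theorem not_isSquare_neg_one (hq : Fintype.card F = 3) : ¬ IsSquare (-1 : F) := by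
  rintro ⟨s, hs⟩
  rcases sq_cases hq s with ⟨-, h⟩ | ⟨-, h⟩
  · rw [h] at hs
    exact neg_ne_zero.2 one_ne_zero hs
  · rw [h] at hs
    exact neg_one_ne_one3 hq hs

/-- Three squares summing to one: exactly one is nonzero. -/
theorem three_sq (hq : Fintype.card F = 3) {a b c : F} (h : a * a + b * b + c * c = 1) :
    (a ≠ 0 ∧ b = 0 ∧ c = 0) ∨ (a = 0 ∧ b ≠ 0 ∧ c = 0) ∨ (a = 0 ∧ b = 0 ∧ c ≠ 0) := by
  have h3 := three_eq_zero hq
  have h2 := two_ne_zero3 hq
  rcases sq_cases hq a with ⟨ha, ha'⟩ | ⟨ha, ha'⟩ <;> rcases sq_cases hq b with ⟨hb, hb'⟩ | ⟨hb, hb'⟩ <;>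
    rcases sq_cases hq c with ⟨hc, hc'⟩ | ⟨hc, hc'⟩ <;> rw [ha', hb', hc'] at h
  · exfalso; simp at h
  · exact Or.inr (Or.inr ⟨ha, hb, hc⟩)
  · exact Or.inr (Or.inl ⟨ha, hb, hc⟩)
  · exfalso
    have : (1 : F) = 0 := by linear_combination h
    exact one_ne_zero this
  · exact Or.inl ⟨ha, hb, hc⟩
  · exfalso
    have : (1 : F) = 0 := by linear_combination h
    exact one_ne_zero this
  · exfalso
    have : (1 : F) = 0 := by linear_combination h
    exact one_ne_zero this
  · exfalso
    apply h2
    linear_combination h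

end Field3

variable {F : Type*} [Field F]

/-- a symmetric form as a bilinear form -/
noncomputable def toBilin {n : ℕ} {f : (Fin n → F) → (Fin n → F) → F}
    (hf : Cfsg.Geo.IsBilinearForm f) : LinearMap.BilinForm F (Fin n → F) :=
  LinearMap.mk₂ F f hf.add_left (fun c x v => by rw [hf.smul_left, smul_eq_mul]) hf.add_right
    (fun c v x => by rw [hf.smul_right, smul_eq_mul])

theorem toBilin_apply {n : ℕ} {f : (Fin n → F) → (Fin n → F) → F}
    (hf : Cfsg.Geo.IsBilinearForm f) (x y : Fin n → F) : toBilin hf x y = f x y := rfl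

/-- **Orthogonal frame with equal norms on `F_3^3`.** -/
theorem exists_frame [Fintype F] (hq : Fintype.card F = 3) {f : (Fin 3 → F) → (Fin 3 → F) → F}
    (hf : Cfsg.Geo.IsSymmetricForm f) :
    ∃ (v : Fin 3 → (Fin 3 → F)) (ε : F), ε ≠ 0 ∧ (∀ i, f (v i) (v i) = ε) ∧
      ∀ i j, i ≠ j → f (v i) (v j) = 0 := by
  have hS : (toBilin hf.bilinear).IsSymm := ⟨fun x y => hf.symm x y⟩
  have hB : (toBilin hf.bilinear).Nondegenerate := by
    constructor
    · intro x hx
      by_contra h0
      obtain ⟨-, y, hy⟩ := hf.nondegenerate x h0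
      exact hy (hx y)
    · intro x hx
      by_contra h0
      obtain ⟨⟨y, hy⟩, -⟩ := hf.nondegenerate x h0
      exact hy (hx y)
  obtain ⟨b, hb1, hb2, hb3⟩ := Cfsg.Agent.ClassicalGeometry.SymmNormalForm.exists_basis_one_or_nonsquare
    (two_ne_zero3 hq) (toBilin hf.bilinear) hS hB (n := 2) (by simp) (-1) (not_isSquare_neg_one hq)
  have e : ∀ i j, toBilin hf.bilinear (b i) (b j) = f (b i) (b j) := fun _ _ => rfl
  have h0 : f (b 0) (b 0) = 1 := hb2 0 (by decide)
  have h1 : f (b 1) (b 1) = 1 := hb2 1 (by decide)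
  have h01 : f (b 0) (b 1) = 0 := hb1 0 1 (by decide)
  have h10 : f (b 1) (b 0) = 0 := hb1 1 0 (by decide)
  have h02 : f (b 0) (b 2) = 0 := hb1 0 2 (by decide)
  have h20 : f (b 2) (b 0) = 0 := hb1 2 0 (by decide)
  have h12 : f (b 1) (b 2) = 0 := hb1 1 2 (by decide)
  have h21 : f (b 2) (b 1) = 0 := hb1 2 1 (by decide)
  have h3 := three_eq_zero hq
  rcases hb3 with h2 | h2
  · refine ⟨fun i => b i, 1, one_ne_zero, ?_, fun i j hij => hb1 i j hij⟩
    intro i
    fin_cases i
    · exact h0
    · exact h1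
    · exact h2
  · have h2' : f (b 2) (b 2) = -1 := h2
    have hneg : ∀ x y, f x (-y) = - f x y := by
      intro x y
      have := hf.bilinear.smul_right (-1) x y
      simpa using this
    have hneg' : ∀ x y, f (-x) y = - f x y := by
      intro x y
      rw [hf.symm, hneg, hf.symm]
    refine ⟨![b 0 + b 1, b 0 - b 1, b 2], -1, neg_ne_zero.2 one_ne_zero, ?_, ?_⟩
    · intro i
      fin_cases i
      · show f (b 0 + b 1) (b 0 + b 1) = -1
        rw [hf.bilinear.add_left, hf.bilinear.add_right, hf.bilinear.add_right, h0, h1, h01, h10]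
        linear_combination h3
      · show f (b 0 - b 1) (b 0 - b 1) = -1
        rw [sub_eq_add_neg, hf.bilinear.add_left, hf.bilinear.add_right, hf.bilinear.add_right,
          hneg, hneg', hneg', hneg, h0, h1, h01, h10]
        linear_combination h3
      · exact h2'
    · intro i j hij
      have k01 : f (b 0 + b 1) (b 0 - b 1) = 0 := by
        rw [sub_eq_add_neg, hf.bilinear.add_left, hf.bilinear.add_right, hf.bilinear.add_right,
          hneg, hneg, h0, h1, h01, h10]
        ring
      have k02 : f (b 0 + b 1) (b 2) = 0 := by rw [hf.bilinear.add_left, h02, h12, add_zero]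
      have k12 : f (b 0 - b 1) (b 2) = 0 := by
        rw [sub_eq_add_neg, hf.bilinear.add_left, hneg', h02, h12]; ring
      fin_cases i <;> fin_cases j
      · exact absurd rfl hij
      · exact k01
      · exact k02
      · show f (b 0 - b 1) (b 0 + b 1) = 0
        rw [hf.symm]; exact k01
      · exact absurd rfl hij
      · exact k12
      · show f (b 2) (b 0 + b 1) = 0
        rw [hf.symm]; exact k02
      · show f (b 2) (b 0 - b 1) = 0
        rw [hf.symm]; exact k12
      · exact absurd rfl hij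

/-- Expansion in an orthogonal frame of `F^3`. -/
theorem expand {f : (Fin 3 → F) → (Fin 3 → F) → F} (hf : Cfsg.Geo.IsSymmetricForm f)
    {v : Fin 3 → (Fin 3 → F)} {ε : F} (hε : ε ≠ 0) (hv : ∀ i, f (v i) (v i) = ε)
    (hv' : ∀ i j, i ≠ j → f (v i) (v j) = 0) (x : Fin 3 → F) :
    x = ∑ k, (ε⁻¹ * f (v k) x) • v k := by
  have hsum : ∀ (c : Fin 3 → F) (j : Fin 3), f (v j) (∑ k, c k • v k) = c j * ε := by
    intro c j
    have h1 : toBilin hf.bilinear (v j) (∑ k, c k • v k) = ∑ k, c k * f (v j) (v k) := by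
      rw [map_sum]
      refine Finset.sum_congr rfl fun k _ => ?_
      rw [map_smul, smul_eq_mul]
      rfl
    rw [← toBilin_apply hf.bilinear, h1, Finset.sum_eq_single j]
    · rw [hv]
    · intro k _ hk
      rw [hv' j k hk.symm, mul_zero]
    · simp
  have hli : LinearIndependent F v := by
    rw [Fintype.linearIndependent_iff]
    intro c hc j
    have h1 := hsum c j
    rw [hc] at h1
    have h2 : f (v j) 0 = 0 := by
      have := hf.bilinear.smul_right 0 (v j) 0
      simpa using this
    rw [h2] at h1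
    exact (mul_eq_zero.1 h1.symm).resolve_right hε
  let b := basisOfLinearIndependentOfCardEqFinrank hli (by simp)
  have hb : ∀ i, b i = v i := fun i => by
    simp [b, coe_basisOfLinearIndependentOfCardEqFinrank]
  have hx : x = ∑ k, b.repr x k • v k := by
    conv_lhs => rw [← b.sum_repr x]
    exact Finset.sum_congr rfl fun k _ => by rw [hb]
  have hc : ∀ k, b.repr x k = ε⁻¹ * f (v k) x := by
    intro k
    have h1 := hsum (fun k => b.repr x k) k
    rw [← hx] at h1
    rw [h1]
    field_simp
  conv_lhs => rw [hx]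
  exact Finset.sum_congr rfl fun k _ => by rw [hc]

/-- **A similarity of `f` on `F_3^3` permutes the frame up to scalars.** -/
theorem similarity_frame [Fintype F] (hq : Fintype.card F = 3)
    {f : (Fin 3 → F) → (Fin 3 → F) → F} (hf : Cfsg.Geo.IsSymmetricForm f)
    {v : Fin 3 → (Fin 3 → F)} {ε : F} (hε : ε ≠ 0) (hv : ∀ i, f (v i) (v i) = ε)
    (hv' : ∀ i j, i ≠ j → f (v i) (v j) = 0) {a : (Fin 3 → F) → (Fin 3 → F)} {lam : F}
    (hlam : lam ≠ 0) (ha : ∀ i j, f (a (v i)) (a (v j)) = lam * f (v i) (v j)) :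
    ∃ σ : Equiv.Perm (Fin 3), ∀ i, ∃ c : F, c ≠ 0 ∧ a (v i) = c • v (σ i) := by
  set m : Matrix (Fin 3) (Fin 3) F := fun k i => ε⁻¹ * f (v k) (a (v i)) with hm
  have hexp : ∀ i, a (v i) = ∑ k, m k i • v k := fun i => expand hf hε hv hv' (a (v i))
  have hform : ∀ i j, f (a (v i)) (a (v j)) = ε * ∑ k, m k i * m k j := by
    intro i j
    conv_lhs => rw [hexp i]
    have h1 : ∀ (c : Fin 3 → F) (y : Fin 3 → F), f (∑ k, c k • v k) y = ∑ k, c k * f (v k) y := by
      intro c y
      rw [← toBilin_apply hf.bilinear, map_sum, LinearMap.sum_apply]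
      refine Finset.sum_congr rfl fun k _ => ?_
      rw [map_smul, LinearMap.smul_apply, smul_eq_mul]
      rfl
    rw [h1, Finset.mul_sum]
    refine Finset.sum_congr rfl fun k _ => ?_
    have h2 : f (v k) (a (v j)) = ε * m k j := by
      rw [hm]
      field_simp
    rw [h2]
    ring
  have hmm : m.transpose * m = lam • (1 : Matrix (Fin 3) (Fin 3) F) := by
    ext i j
    rw [Matrix.mul_apply, Matrix.smul_apply, Matrix.one_apply, smul_eq_mul]
    have h1 := hform i j
    rw [ha] at h1
    have h2 : ∑ k, m.transpose i k * m k j = ∑ k, m k i * m k j := rfl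
    rw [h2]
    apply mul_left_cancel₀ hε
    rw [← h1]
    by_cases hij : i = j
    · subst hij
      rw [hv]
      simp
      ring
    · rw [hv' i j hij]
      simp [hij]
  have hlam1 : lam = 1 := by
    rcases elems hq lam with h | h | h
    · exact absurd h hlam
    · exact h
    · exfalso
      have h1 := congrArg Matrix.det hmm
      rw [Matrix.det_mul, Matrix.det_transpose, Matrix.det_smul, Matrix.det_one, h,
        Fintype.card_fin] at h1
      apply not_isSquare_neg_one hq
      refine ⟨m.det, ?_⟩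
      rw [h1]
      ring
  have hcol : ∀ i, m 0 i * m 0 i + m 1 i * m 1 i + m 2 i * m 2 i = 1 := by
    intro i
    have h1 := congrFun (congrFun hmm i) i
    rw [Matrix.mul_apply, Fin.sum_univ_three, hlam1] at h1
    simpa using h1
  have hex : ∀ i, ∃ k : Fin 3, ∃ c : F, c ≠ 0 ∧ a (v i) = c • v k := by
    intro i
    have h1 := hexp i
    rw [Fin.sum_univ_three] at h1
    rcases three_sq hq (hcol i) with ⟨h, h', h''⟩ | ⟨h, h', h''⟩ | ⟨h, h', h''⟩
    · exact ⟨0, m 0 i, h, by rw [h1, h', h'']; simp⟩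
    · exact ⟨1, m 1 i, h', by rw [h1, h, h'']; simp⟩
    · exact ⟨2, m 2 i, h'', by rw [h1, h, h']; simp⟩
  choose s c hc hs using hex
  have hinj : Function.Injective s := by
    intro i j hij
    by_contra hne
    have h1 := ha i j
    rw [hv' i j hne, mul_zero, hs i, hs j, hij, hf.bilinear.smul_left, hf.bilinear.smul_right,
      hv] at h1
    exact (mul_ne_zero (hc i) (mul_ne_zero (hc j) hε)) h1
  refine ⟨Equiv.ofBijective s (Finite.injective_iff_bijective.1 hinj), fun i => ⟨c i, hc i, ?_⟩⟩
  exact hs i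

end Cfsg.Agent.H883.Frame3
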