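import Cfsg.Agent.H883.Tensor
import Cfsg.Agent.H883.Frame3
import Cfsg.Agent.H883.Sub
import Cfsg.Agent.H925.OrthNot

/-!
`O_3(3) ⊗ O_n(3)` is not maximal in `Ω_{3n}(3)`: it permutes the three subspaces `v_i ⊗ F^n` for the
orthogonal frame `v_i` of `F^3`.
-/

set_option autoImplicit false

namespace Cfsg.Agent.H883.TensorThree

open QuadraticMap Matrix Cfsg.Agent.H883.Tensor Cfsg.Agent.H883.Frame3
open Cfsg.Agent.LieClassical.OrthCore Cfsg.Agent.LieClassical.OrthTrans
  Cfsg.Agent.LieClassical.OrthFinite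

variable {ι : Type} [Fintype ι] [DecidableEq ι] {F : Type*} [Field F]

/-- the subspace `x ⊗ F^(n₂)` -/
noncomputable def lineTensor {n₁ n₂ : ℕ} (e : ι ≃ Fin n₁ × Fin n₂) (P : GL ι F) (x : Fin n₁ → F) :
    Submodule F (ι → F) := LinearMap.range (pureBilin e P x)

theorem mem_lineTensor {n₁ n₂ : ℕ} {e : ι ≃ Fin n₁ × Fin n₂} {P : GL ι F} {x : Fin n₁ → F}
    {v : ι → F} : v ∈ lineTensor e P x ↔ ∃ y, pure e P x y = v := Iff.rfl

theorem tensor_three_not_maximal [Fintype F] (hq : Fintype.card F = 3) {Q : (ι → F) → F}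
    (hQ : Cfsg.Geo.IsNondegenerateQuadraticForm Q) {n₂ : ℕ} (h2 : 5 ≤ n₂)
    (e : ι ≃ Fin 3 × Fin n₂) (P : GL ι F)
    (f₁ : (Fin 3 → F) → (Fin 3 → F) → F) (f₂ : (Fin n₂ → F) → (Fin n₂ → F) → F)
    (hf₁ : Cfsg.Geo.IsSymmetricForm f₁) (hf₂ : Cfsg.Geo.IsSymmetricForm f₂)
    (hT : Cfsg.Geo.IsTensorFormStructure id (QuadraticMap.polar Q) f₁ f₂ e P) :
    ∃ K : Subgroup (GL ι F),
      Cfsg.Geo.tensorProductSubgroup 3 n₂ e P ⊓ Cfsg.Geo.omegaGL Q < K ∧ K < Cfsg.Geo.omegaGL Q := by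
  have hcard : Fintype.card ι = 3 * n₂ := by
    rw [Fintype.card_congr e, Fintype.card_prod, Fintype.card_fin, Fintype.card_fin]
  have hn5 : 5 ≤ Fintype.card ι := by omega
  obtain ⟨v, ε, hε, hv, hv'⟩ := exists_frame hq hf₁
  obtain ⟨c, hc, hform⟩ := form_pure hf₁.bilinear hf₂.bilinear hT
  obtain ⟨Q', hQQ, hnd⟩ := Cfsg.Agent.H883.Bridge.exists_quadraticForm hQ
  have hsym2 : ∀ y, y ≠ 0 → ∃ z, f₂ y z ≠ 0 := fun y hy => (hf₂.nondegenerate y hy).2
  let D : Fin 3 → Submodule F (ι → F) := fun i => lineTensor e P (v i)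
  -- the form between the members
  have hDform : ∀ i j y y', polar Q (pure e P (v i) y) (pure e P (v j) y') =
      if i = j then c * (ε * f₂ y y') else 0 := by
    intro i j y y'
    rw [hform]
    by_cases hij : i = j
    · subst hij
      rw [hv, if_pos rfl]
    · rw [hv' i j hij, if_neg hij, zero_mul, mul_zero]
  have hinj : ∀ i y, pure e P (v i) y = 0 → y = 0 := by
    intro i y hy
    by_contra h0
    obtain ⟨z, hz⟩ := hsym2 y h0
    have h1 := hDform i i y z
    rw [hy, if_pos rfl] at h1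
    have h3 : polar Q 0 (pure e P (v i) z) = 0 := by
      rw [← hQQ]
      exact polar_zero_left Q' _
    rw [h3] at h1
    exact (mul_ne_zero hc (mul_ne_zero hε hz)) h1.symm
  have hinj2 : ∀ i y y', pure e P (v i) y = pure e P (v i) y' → y = y' := by
    intro i y y' h
    rw [← sub_eq_zero]
    apply hinj i
    rw [← pureBilin_apply, map_sub, pureBilin_apply, pureBilin_apply, h, sub_self]
  have hDne : ∀ i, D i ≠ ⊥ := by
    intro i h
    have h0 : (Pi.single (⟨0, by omega⟩ : Fin n₂) (1 : F) : Fin n₂ → F) ≠ 0 := by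
      intro h1
      have := congrFun h1 ⟨0, by omega⟩
      simp at this
    apply h0
    apply hinj i
    have : pure e P (v i) (Pi.single (⟨0, by omega⟩ : Fin n₂) (1 : F)) ∈ D i := ⟨_, rfl⟩
    rw [h] at this
    simpa using this
  have hDnd : ∀ i, Cfsg.Agent.H883.Sub.NondegOn Q' (D i) := by
    rintro i _ ⟨y, rfl⟩ hy
    by_contra h0
    have hy0 : y ≠ 0 := by
      rintro rfl
      exact h0 (map_zero _)
    obtain ⟨z, hz⟩ := hsym2 y hy0
    have h1 := hy (pure e P (v i) z) ⟨z, rfl⟩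
    rw [pureBilin_apply, hQQ, hDform, if_pos rfl] at h1
    exact (mul_ne_zero hc (mul_ne_zero hε hz)) h1
  have hDind : iSupIndep D := by
    rw [iSupIndep_def]
    intro i
    rw [Submodule.disjoint_def]
    intro x hx hx'
    have hle : (⨆ (j : Fin 3) (_ : j ≠ i), D j) ≤ Cfsg.Agent.H883.Sub.perp Q' (D i) := by
      refine iSup_le fun j => iSup_le fun hj => ?_
      rintro _ ⟨y, rfl⟩
      rw [Cfsg.Agent.H883.Sub.mem_perp]
      rintro _ ⟨y', rfl⟩
      rw [pureBilin_apply, pureBilin_apply, hQQ, hDform, if_neg (Ne.symm hj)]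
    have hx2 := hle hx'
    exact hDnd i x hx fun z hz => Cfsg.Agent.H883.Sub.mem_perp'.1 hx2 z hz
  have hDfin : ∀ i, Module.finrank F (D i) = n₂ := by
    intro i
    have h1 : LinearMap.ker (pureBilin e P (v i)) = ⊥ := by
      rw [LinearMap.ker_eq_bot']
      exact fun y hy => hinj i y hy
    have h3 := LinearMap.finrank_range_of_inj (LinearMap.ker_eq_bot.1 h1)
    rw [Module.finrank_fin_fun] at h3
    exact h3
  -- elements of the tensor product group permute the members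
  have hkey : ∀ g ∈ Cfsg.Geo.tensorProductSubgroup 3 n₂ e P ⊓ Cfsg.Geo.omegaGL Q,
      ∃ (b : GL (Fin n₂) F) (σ : Equiv.Perm (Fin 3)), ∀ i, ∃ d : F, d ≠ 0 ∧ ∀ y,
        (g : Matrix ι ι F) *ᵥ pure e P (v i) y = d • pure e P (v (σ i)) ((b : Matrix _ _ F) *ᵥ y) := by
    rintro g ⟨hg1, hg2⟩
    obtain ⟨a, b, hab⟩ := (mem_tensorProductSubgroup_iff e P g).1 hg1
    have hiso : ∀ x y, polar Q ((g : Matrix ι ι F) *ᵥ x) ((g : Matrix ι ι F) *ᵥ y) = polar Q x y := by
      intro x y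
      have hgQ : ∀ z, Q ((g : Matrix ι ι F) *ᵥ z) = Q z := by
        have := Cfsg.Agent.H925.omegaGL_le_iso Q hg2
        exact Cfsg.Agent.H925.mem_iso_iff.1 this
      simp only [polar, ← Matrix.mulVec_add, hgQ]
    -- `a` is a similarity
    obtain ⟨y0, y1, hy01⟩ : ∃ y0 y1, f₂ y0 y1 ≠ 0 := by
      have h0 : (Pi.single (⟨0, by omega⟩ : Fin n₂) (1 : F) : Fin n₂ → F) ≠ 0 := by
        intro h1
        have := congrFun h1 ⟨0, by omega⟩
        simp at this
      obtain ⟨z, hz⟩ := hsym2 _ h0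
      exact ⟨_, z, hz⟩
    have hsim : ∀ i j, f₁ ((a : Matrix _ _ F) *ᵥ v i) ((a : Matrix _ _ F) *ᵥ v j) *
        f₂ ((b : Matrix _ _ F) *ᵥ y0) ((b : Matrix _ _ F) *ᵥ y1) = f₁ (v i) (v j) * f₂ y0 y1 := by
      intro i j
      have h1 := hiso (pure e P (v i) y0) (pure e P (v j) y1)
      rw [hab, hab, hform, hform] at h1
      exact mul_left_cancel₀ hc h1
    set β := f₂ ((b : Matrix _ _ F) *ᵥ y0) ((b : Matrix _ _ F) *ᵥ y1) with hβ
    have hβ0 : β ≠ 0 := by
      intro h0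
      have h1 := hsim 0 0
      rw [h0, mul_zero, hv] at h1
      exact (mul_ne_zero hε hy01) h1.symm
    obtain ⟨σ, hσ⟩ := similarity_frame hq hf₁ hε hv hv' (a := fun x => (a : Matrix _ _ F) *ᵥ x)
      (lam := f₂ y0 y1 * β⁻¹) (mul_ne_zero hy01 (inv_ne_zero hβ0)) (by
        intro i j
        have h1 := hsim i j
        show f₁ ((a : Matrix _ _ F) *ᵥ v i) ((a : Matrix _ _ F) *ᵥ v j) = _
        rw [eq_comm, mul_comm, ← mul_assoc, ← h1, mul_assoc, mul_inv_cancel₀ hβ0, mul_one])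
    refine ⟨b, σ, fun i => ?_⟩
    obtain ⟨d, hd, h⟩ := hσ i
    refine ⟨d, hd, fun y => ?_⟩
    have h' : (a : Matrix _ _ F) *ᵥ v i = d • v (σ i) := h
    rw [hab, h', pure_smul_left]
  refine ⟨Cfsg.Geo.decompositionStabilizer D ⊓ Cfsg.Geo.omegaGL Q, ?_, ?_⟩
  · rw [lt_iff_le_and_ne]
    refine ⟨fun g hg => ⟨?_, hg.2⟩, ?_⟩
    · obtain ⟨b, σ, hσ⟩ := hkey g hg
      refine ⟨σ, fun i => ?_⟩
      obtain ⟨d, hd, h⟩ := hσ i
      ext x
      rw [Submodule.mem_map]
      constructor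
      · rintro ⟨_, ⟨y, rfl⟩, rfl⟩
        rw [Matrix.toLin'_apply, pureBilin_apply, h]
        exact (D (σ i)).smul_mem _ ⟨_, rfl⟩
      · rintro ⟨y, rfl⟩
        refine ⟨pure e P (v i) (((b⁻¹ : GL (Fin n₂) F) : Matrix _ _ F) *ᵥ (d⁻¹ • y)), ⟨_, rfl⟩, ?_⟩
        rw [Matrix.toLin'_apply, h, Matrix.mulVec_mulVec, ← Units.val_mul, mul_inv_cancel,
          Units.val_one, Matrix.one_mulVec, pure_smul_right, smul_smul, mul_inv_cancel₀ hd,
          one_smul, pureBilin_apply]
    · -- a Siegel transformation of the first member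
      intro heq
      have hQ'5 : 3 ≤ Module.finrank F (D 0) := by rw [hDfin]; omega
      obtain ⟨u, huD, hu0, hu⟩ := exists_sing_mem (Q := Q') (D 0) hQ'5
      -- `w` in `D 0`, orthogonal to `u` and not a multiple of `u`
      obtain ⟨z, hzD, huz⟩ := (hDnd 0).exists_polar_eq huD hu0 1
      obtain ⟨w, hwD, hw0, huw, hzw⟩ : ∃ w ∈ D 0, w ≠ 0 ∧ polar Q' u w = 0 ∧ polar Q' z w = 0 := by
        have hfin := hDfin 0
        have hrk : 2 < Module.finrank F (D 0) := by omega
        obtain ⟨w, hw0, hw⟩ := exists_perp_ne (Q := Cfsg.Agent.H883.Sub.res Q' (D 0))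
          ![⟨u, huD⟩, ⟨z, hzD⟩] hrk
        exact ⟨w, w.2, fun h => hw0 (Subtype.ext h), hw 0, hw 1⟩
      have huQ : Q u = 0 := by rw [← hQQ]; exact hu
      have huwQ : polar Q u w = 0 := by rw [← hQQ]; exact huw
      obtain ⟨g, hg, hgact⟩ := Cfsg.Agent.H925.exists_siegel hQ hn5 huQ huwQ
      have hgfix : ∀ x ∈ D 1, (g : Matrix ι ι F) *ᵥ x = x := by
        rintro _ ⟨y, rfl⟩
        obtain ⟨y1, rfl⟩ := huD
        obtain ⟨y2, rfl⟩ := hwD
        rw [hgact, pureBilin_apply, pureBilin_apply, pureBilin_apply, hDform, hDform,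
          if_neg (by decide)]
        simp
      have hgfix2 : ∀ x ∈ D 2, (g : Matrix ι ι F) *ᵥ x = x := by
        rintro _ ⟨y, rfl⟩
        obtain ⟨y1, rfl⟩ := huD
        obtain ⟨y2, rfl⟩ := hwD
        rw [hgact, pureBilin_apply, pureBilin_apply, pureBilin_apply, hDform, hDform,
          if_neg (by decide)]
        simp
      have hgst : ∀ x ∈ D 0, (g : Matrix ι ι F) *ᵥ x ∈ D 0 := by
        intro x hx
        rw [hgact]
        exact (D 0).sub_mem ((D 0).sub_mem ((D 0).add_mem hx ((D 0).smul_mem _ hwD))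
          ((D 0).smul_mem _ huD)) ((D 0).smul_mem _ huD)
      have hgK : g ∈ Cfsg.Geo.decompositionStabilizer D ⊓ Cfsg.Geo.omegaGL Q := by
        refine ⟨⟨1, fun i => ?_⟩, hg⟩
        rw [Equiv.Perm.one_apply]
        have hle : (D i).map (Matrix.toLin' (g : Matrix ι ι F)) ≤ D i := by
          rintro _ ⟨x, hx, rfl⟩
          rw [Matrix.toLin'_apply]
          fin_cases i
          · exact hgst x hx
          · have := hgfix x hx
            rw [this]; exact hx
          · have := hgfix2 x hx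
            rw [this]; exact hx
        refine Submodule.eq_of_le_of_finrank_eq hle ?_
        exact LinearEquiv.finrank_map_eq (glEquiv ι F g) (D i)
      rw [← heq] at hgK
      obtain ⟨b, σ, hσ⟩ := hkey g hgK
      -- `g` is trivial on `D 1`
      have hσi : ∀ i, (∃ y, y ≠ 0 ∧ (g : Matrix ι ι F) *ᵥ pure e P (v i) y = pure e P (v i) y) →
          σ i = i := by
        rintro i ⟨y, hy, hgy⟩
        obtain ⟨d, hd, h⟩ := hσ i
        by_contra hne
        rw [h] at hgy
        have h1 : (D i) ⊓ (⨆ (j : Fin 3) (_ : j ≠ i), D j) = ⊥ :=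
          (iSupIndep_def.1 hDind i).eq_bot
        have h2 : pure e P (v i) y ∈ (D i) ⊓ (⨆ (j : Fin 3) (_ : j ≠ i), D j) := by
          refine ⟨⟨y, rfl⟩, ?_⟩
          rw [← hgy]
          have h3 : D (σ i) ≤ ⨆ (j : Fin 3) (_ : j ≠ i), D j := le_iSup₂_of_le (σ i) hne le_rfl
          exact h3 ((D (σ i)).smul_mem _ ⟨_, rfl⟩)
        rw [h1] at h2
        exact hy (hinj i y (by simpa using h2))
      have hy0 : ∃ y : Fin n₂ → F, y ≠ 0 := by
        refine ⟨Pi.single (⟨0, by omega⟩ : Fin n₂) (1 : F), ?_⟩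
        intro h1
        have := congrFun h1 ⟨0, by omega⟩
        simp at this
      obtain ⟨ye, hye⟩ := hy0
      have hσ1 : σ 1 = 1 := hσi 1 ⟨ye, hye, hgfix _ ⟨ye, rfl⟩⟩
      obtain ⟨d1, hd1, h1⟩ := hσ 1
      have hb : ∀ y : Fin n₂ → F, (b : Matrix (Fin n₂) (Fin n₂) F) *ᵥ y = d1⁻¹ • y := by
        intro y
        have h3 := h1 y
        have h4 : (g : Matrix ι ι F) *ᵥ pure e P (v 1) y = pure e P (v 1) y := hgfix _ ⟨y, rfl⟩
        rw [h4, hσ1, ← pure_smul_right] at h3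
        have h5 := hinj2 1 _ _ h3
        rw [eq_inv_smul_iff₀ hd1]
        exact h5.symm
      -- on `D 0`
      obtain ⟨y1, hy1⟩ := huD
      rw [pureBilin_apply] at hy1
      have hgu : (g : Matrix ι ι F) *ᵥ u = u := by
        have h6 : polar Q u u = 0 := by
          rw [← hQQ]; exact polar_self_of_sing hu
        have h7 : polar Q w u = 0 := by rw [polar_comm]; exact huwQ
        rw [hgact, h6, h7]
        simp
      have hy1n : y1 ≠ 0 := by
        rintro rfl
        apply hu0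
        rw [← hy1, ← pureBilin_apply, map_zero]
      have hσ0 : σ 0 = 0 := hσi 0 ⟨y1, hy1n, by rw [hy1]; exact hgu⟩
      obtain ⟨d0, hd0, h0⟩ := hσ 0
      have hsc : ∀ x ∈ D 0, (g : Matrix ι ι F) *ᵥ x = (d0 * d1⁻¹) • x := by
        rintro _ ⟨y, rfl⟩
        rw [pureBilin_apply, h0, hσ0, hb, pure_smul_right, smul_smul]
      have hsc1 : d0 * d1⁻¹ = 1 := by
        have h8 := hsc u ⟨y1, by rw [pureBilin_apply]; exact hy1⟩
        rw [hgu] at h8
        have h9 : (d0 * d1⁻¹ - 1) • u = 0 := by rw [sub_smul, one_smul, ← h8, sub_self]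
        rcases smul_eq_zero.1 h9 with h | h
        · exact sub_eq_zero.1 h
        · exact absurd h hu0
      have hgz := hsc z hzD
      rw [hsc1, one_smul, hgact] at hgz
      have huzQ : polar Q u z = 1 := by rw [← hQQ]; exact huz
      have hwzQ : polar Q w z = 0 := by rw [polar_comm, ← hQQ]; exact hzw
      rw [huzQ, hwzQ, one_smul, zero_smul, sub_zero, mul_one] at hgz
      -- `w = Q w • u`
      have hw1 : w = Q w • u := by
        have h10 : w - Q w • u = 0 := by
          have : z + w - Q w • u - z = 0 := by rw [hgz, sub_self]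
          rw [← this]; abel
        exact sub_eq_zero.1 h10
      have h11 : polar Q z w = 0 := by rw [← hQQ]; exact hzw
      rw [hw1] at h11
      have h12 : polar Q z (Q w • u) = Q w * polar Q z u := by
        rw [← hQQ, polar_smul_right, smul_eq_mul]
      rw [h12, polar_comm, huzQ, mul_one] at h11
      rw [h11, zero_smul] at hw1
      exact hw0 hw1
  · rw [lt_iff_le_and_ne]
    refine ⟨inf_le_right, fun h => ?_⟩
    exact Cfsg.Agent.H925.omegaGL_not_le_decompositionStabilizer hQ (by omega) (by norm_num) hDne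
      hDind (inf_eq_right.1 h)

end Cfsg.Agent.H883.TensorThree
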